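import Cfsg.Agent.Lib.SmallSimple.Sieve6232.Base

/-!
# The sieve from 3965 to 4288
-/

namespace Cfsg.Agent.SmallSimple.Sieve6232

/-- Certificates from 3965 to 4288. -/
def cert1 : List ℕ :=
  [61, 661, 3967, 31, 7, 397, 19, 331, 137, 1987, 53, 71, 97, 17,
  173, 199, 1327, 181, 569, 83, 797, 1993, 443, 997, 3989, 19, 307, 499,
  11, 1997, 47, 37, 571, 1999, 43, 5, 4001, 29, 4003, 13, 89, 2003,
  4007, 167, 211, 401, 191, 59, 4013, 223, 73, 251, 103, 41, 4019, 67,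
  4021, 2011, 149, 503, 23, 61, 4027, 53, 79, 31, 139, 0, 109, 2017,
  269, 1009, 367, 673, 577, 101, 449, 47, 311, 337, 809, 17, 71, 23,
  4049, 2, 4051, 1013, 193, 2027, 811, 13, 4057, 2029, 41, 29, 131, 677,
  239, 127, 271, 107, 83, 113, 313, 37, 59, 509, 4073, 97, 163, 1019,
  151, 2039, 4079, 0, 53, 157, 1361, 1021, 43, 227, 67, 73, 47, 409,
  4091, 31, 4093, 89, 5, 2, 241, 683, 4099, 41, 1367, 293, 373, 19,
  821, 2053, 37, 79, 587, 137, 4111, 257, 457, 17, 823, 7, 179, 71,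
  1373, 103, 317, 229, 31, 1031, 11, 2063, 4127, 43, 4129, 59, 17, 1033,
  4133, 53, 827, 47, 197, 2069, 4139, 23, 101, 109, 1381, 37, 829, 691,
  29, 61, 461, 83, 593, 173, 4153, 67, 277, 1039, 4157, 11, 4159, 13,
  73, 2081, 181, 347, 17, 2083, 463, 521, 379, 139, 97, 149, 107, 2087,
  167, 29, 4177, 2089, 199, 19, 113, 41, 89, 523, 31, 23, 79, 349,
  71, 419, 127, 131, 599, 233, 839, 1049, 1399, 2099, 19, 0, 4201, 191,
  467, 1051, 29, 701, 601, 263, 61, 421, 4211, 0, 383, 43, 281, 31,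
  4217, 19, 4219, 211, 67, 2111, 103, 11, 13, 2113, 1409, 151, 4229, 47,
  4231, 23, 83, 73, 11, 353, 223, 163, 157, 53, 4241, 101, 4243, 1061,
  283, 193, 137, 59, 607, 17, 109, 1063, 4253, 709, 37, 19, 43, 2129,
  4259, 71, 4261, 2131, 29, 41, 853, 79, 251, 97, 1423, 61, 4271, 89,
  4273, 2137, 19, 1069, 47, 31, 389, 107, 1427, 2141, 4283, 17, 857, 2143,
  1429, 67]

set_option maxRecDepth 100000 in
set_option maxHeartbeats 4000000 in
theorem covers1 : Covers 3965 cert1 := by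
  decide +kernel

theorem length1 : cert1.length = 324 := by decide +kernel

end Cfsg.Agent.SmallSimple.Sieve6232
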