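import Cfsg.Agent.Lib.SmallSimple.Sieve6232.Base

/-!
# The sieve from 4289 to 4612
-/

namespace Cfsg.Agent.SmallSimple.Sieve6232

/-- Certificates from 4289 to 4612. -/
def cert2 : List ℕ :=
  [4289, 13, 613, 37, 53, 113, 859, 179, 4297, 307, 1433, 43, 23, 239,
  331, 269, 41, 2153, 73, 359, 139, 431, 479, 11, 227, 719, 863, 83,
  1439, 127, 617, 0, 149, 2161, 131, 47, 173, 103, 4327, 541, 37, 433,
  71, 19, 619, 197, 17, 271, 4337, 241, 4339, 31, 1447, 167, 101, 181,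
  79, 53, 23, 1087, 4349, 29, 229, 17, 1451, 311, 67, 11, 4357, 2179,
  1453, 109, 89, 727, 4363, 1091, 97, 59, 397, 13, 257, 23, 47, 1093,
  4373, 3, 7, 547, 1459, 199, 151, 73, 337, 313, 487, 137, 877, 43,
  107, 1097, 11, 439, 4391, 61, 191, 13, 293, 157, 4397, 733, 83, 0,
  163, 71, 37, 367, 881, 2203, 113, 29, 4409, 7, 401, 1103, 1471, 2207,
  883, 23, 631, 47, 491, 17, 4421, 67, 4423, 79, 59, 2213, 233, 41,
  103, 443, 211, 277, 31, 739, 887, 1109, 29, 317, 193, 37, 4441, 2221,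
  1481, 101, 127, 13, 4447, 139, 1483, 89, 4451, 53, 73, 131, 11, 557,
  4457, 743, 13, 223, 1487, 97, 4463, 31, 47, 29, 1489, 1117, 109, 149,
  263, 43, 71, 2237, 179, 373, 37, 2239, 1493, 2, 4481, 83, 4483, 59,
  23, 2243, 641, 17, 67, 449, 499, 1123, 4493, 107, 31, 281, 1499, 173,
  409, 5, 643, 2251, 79, 563, 53, 751, 4507, 23, 167, 41, 347, 47,
  4513, 61, 43, 1129, 4517, 251, 4519, 113, 137, 19, 4523, 29, 181, 73,
  503, 283, 647, 151, 197, 103, 1511, 2267, 907, 0, 349, 2269, 89, 227,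
  239, 757, 59, 71, 101, 2273, 4547, 379, 4549, 13, 41, 569, 157, 23,
  911, 67, 31, 53, 97, 19, 4561, 2281, 13, 163, 83, 761, 4567, 571,
  1523, 457, 653, 127, 269, 2287, 61, 13, 199, 109, 241, 229, 509, 79,
  4583, 191, 131, 2293, 139, 37, 353, 17, 4591, 41, 1531, 2297, 919, 383,
  4597, 19, 73, 23, 107, 59, 4603, 1151, 307, 47, 271, 2, 419, 461,
  53, 1153]

set_option maxRecDepth 100000 in
set_option maxHeartbeats 4000000 in
theorem covers2 : Covers 4289 cert2 := by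
  decide +kernel

theorem length2 : cert2.length = 324 := by decide +kernel

end Cfsg.Agent.SmallSimple.Sieve6232
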