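import Cfsg.Agent.Lib.SmallSimple.Sieve6232.Base

/-!
# The sieve from 4613 to 4936
-/

namespace Cfsg.Agent.SmallSimple.Sieve6232

/-- Certificates from 4613 to 4936. -/
def cert3 : List ℕ :=
  [659, 769, 71, 577, 19, 2309, 149, 0, 4621, 2311, 67, 17, 37, 257,
  661, 89, 1543, 463, 421, 193, 113, 331, 103, 61, 4637, 773, 4639, 29,
  17, 211, 4643, 43, 929, 101, 1549, 83, 4649, 31, 4651, 1163, 47, 179,
  19, 97, 4657, 137, 1553, 233, 79, 37, 4663, 53, 311, 2333, 359, 389,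
  29, 467, 173, 73, 4673, 41, 17, 167, 1559, 2339, 4679, 0, 151, 2341,
  223, 1171, 937, 71, 109, 293, 521, 67, 4691, 23, 19, 2347, 313, 587,
  61, 29, 127, 47, 1567, 2351, 4703, 7, 941, 181, 523, 107, 277, 157,
  673, 31, 1571, 2357, 41, 131, 89, 337, 13, 59, 4721, 787, 4723, 1181,
  5, 139, 163, 197, 4729, 43, 83, 13, 4733, 263, 947, 37, 1579, 103,
  677, 79, 431, 2371, 31, 593, 73, 113, 101, 1187, 1583, 19, 4751, 11,
  97, 2377, 317, 41, 71, 61, 4759, 0, 23, 2381, 433, 397, 953, 2383,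
  227, 149, 251, 53, 367, 1193, 43, 31, 191, 199, 281, 2389, 59, 239,
  683, 797, 4783, 23, 29, 2393, 4787, 19, 4789, 479, 1597, 599, 4793, 47,
  137, 109, 41, 2399, 4799, 0, 4801, 7, 1601, 1201, 31, 89, 23, 601,
  229, 37, 283, 401, 4813, 83, 107, 43, 4817, 73, 79, 241, 1607, 2411,
  53, 67, 193, 127, 1609, 71, 439, 23, 4831, 151, 179, 2417, 967, 31,
  691, 59, 1613, 11, 103, 269, 167, 173, 19, 2423, 131, 101, 373, 97,
  11, 1213, 211, 809, 971, 607, 1619, 347, 113, 3, 4861, 17, 1621, 19,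
  139, 811, 157, 1217, 541, 487, 4871, 29, 443, 2437, 13, 53, 4877, 271,
  41, 61, 1627, 2441, 257, 37, 977, 349, 181, 47, 4889, 163, 73, 1223,
  233, 2447, 89, 17, 83, 79, 71, 5, 29, 43, 4903, 613, 109, 223,
  701, 409, 4909, 491, 1637, 307, 17, 2, 983, 1229, 149, 2459, 4919, 41,
  37, 107, 547, 1231, 197, 821, 379, 0, 53, 29, 4931, 137, 4933, 2467,
  47, 617]

set_option maxRecDepth 100000 in
set_option maxHeartbeats 4000000 in
theorem covers3 : Covers 4613 cert3 := by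
  decide +kernel

theorem length3 : cert3.length = 324 := by decide +kernel

end Cfsg.Agent.SmallSimple.Sieve6232
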