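import Cfsg.Agent.Lib.SmallSimple.Sieve6232.Base

/-!
# The sieve from 4937 to 5260
-/

namespace Cfsg.Agent.SmallSimple.Sieve6232

/-- Certificates from 4937 to 5260. -/
def cert4 : List ℕ :=
  [4937, 823, 449, 19, 61, 353, 4943, 103, 43, 2473, 97, 1237, 101, 2,
  4951, 619, 127, 2477, 991, 59, 4957, 67, 29, 0, 41, 827, 709, 73,
  331, 191, 4967, 23, 4969, 71, 1657, 113, 4973, 829, 199, 311, 79, 131,
  383, 83, 293, 53, 151, 89, 997, 277, 4987, 43, 1663, 499, 31, 13,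
  4993, 227, 37, 1249, 263, 17, 4999, 5, 1667, 61, 5003, 139, 13, 2503,
  1669, 313, 5009, 167, 5011, 179, 557, 109, 59, 19, 173, 193, 239, 251,
  5021, 31, 5023, 157, 67, 359, 457, 419, 107, 503, 43, 37, 719, 839,
  53, 1259, 73, 229, 5039, 0, 71, 2521, 41, 97, 1009, 29, 103, 631,
  17, 101, 5051, 421, 163, 19, 337, 79, 389, 281, 5059, 23, 241, 2531,
  83, 211, 1013, 149, 563, 181, 137, 13, 461, 317, 89, 59, 29, 47,
  5077, 2539, 1693, 127, 5081, 11, 23, 41, 113, 2543, 5087, 53, 727, 509,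
  1697, 67, 463, 283, 1019, 7, 1699, 2549, 5099, 17, 5101, 2551, 7, 0,
  1021, 37, 5107, 1277, 131, 73, 269, 71, 5113, 2557, 31, 1279, 43, 853,
  5119, 2, 569, 197, 109, 61, 41, 233, 1709, 641, 223, 19, 733, 1283,
  59, 151, 79, 107, 467, 367, 571, 257, 97, 857, 139, 643, 7, 83,
  5147, 0, 271, 103, 101, 23, 5153, 859, 1031, 1289, 191, 2579, 67, 43,
  397, 89, 1721, 1291, 1033, 41, 5167, 19, 1723, 47, 5171, 431, 739, 199,
  23, 647, 167, 863, 5179, 37, 157, 2591, 73, 0, 61, 2593, 19, 1297,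
  5189, 173, 179, 59, 577, 53, 1039, 433, 5197, 113, 1733, 0, 743, 17,
  43, 1301, 347, 137, 127, 31, 5209, 521, 193, 1303, 401, 79, 149, 163,
  47, 2609, 307, 29, 227, 373, 1741, 653, 19, 67, 5227, 1307, 83, 523,
  5231, 109, 5233, 2617, 349, 0, 5237, 97, 31, 131, 1747, 2621, 107, 23,
  1049, 61, 53, 41, 181, 5, 89, 101, 103, 71, 1051, 73, 751, 239,
  1753, 263]

set_option maxRecDepth 100000 in
set_option maxHeartbeats 4000000 in
theorem covers4 : Covers 4937 cert4 := by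
  decide +kernel

theorem length4 : cert4.length = 324 := by decide +kernel

end Cfsg.Agent.SmallSimple.Sieve6232
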