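import Cfsg.Agent.Lib.SmallSimple.Sieve6232.Base

/-!
# The sieve from 5261 to 5584
-/

namespace Cfsg.Agent.SmallSimple.Sieve6232

/-- Certificates from 5261 to 5584. -/
def cert5 : List ℕ :=
  [5261, 877, 277, 47, 5, 2633, 229, 439, 479, 31, 251, 659, 5273, 293,
  211, 1319, 1759, 29, 5279, 11, 5281, 139, 587, 1321, 151, 881, 311, 661,
  43, 23, 37, 7, 79, 2647, 353, 331, 5297, 883, 757, 53, 31, 241,
  5303, 13, 1061, 379, 61, 1327, 5309, 59, 113, 83, 23, 2657, 1063, 443,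
  409, 2659, 197, 19, 313, 887, 5323, 11, 71, 2663, 761, 37, 73, 41,
  1777, 43, 5333, 127, 97, 29, 593, 157, 281, 89, 109, 2671, 137, 167,
  1069, 3, 5347, 191, 1783, 107, 5351, 223, 101, 2677, 17, 103, 487, 47,
  233, 67, 1787, 383, 173, 149, 37, 2683, 1789, 61, 59, 179, 131, 79,
  199, 2687, 43, 0, 283, 2689, 163, 269, 5381, 23, 769, 673, 359, 2693,
  5387, 449, 317, 11, 599, 337, 5393, 31, 83, 71, 257, 2699, 5399, 0,
  491, 73, 1801, 193, 47, 53, 5407, 13, 601, 541, 773, 41, 5413, 2707,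
  19, 677, 5417, 43, 5419, 271, 139, 2711, 29, 113, 31, 2713, 67, 59,
  89, 181, 5431, 97, 1811, 19, 1087, 151, 5437, 2719, 37, 17, 5441, 907,
  5443, 1361, 11, 389, 419, 227, 5449, 109, 79, 47, 41, 101, 1091, 31,
  107, 2729, 103, 0, 127, 2731, 607, 683, 1093, 911, 71, 1367, 1823, 547,
  5471, 0, 421, 23, 73, 37, 5477, 83, 5479, 137, 29, 2741, 5483, 457,
  1097, 211, 59, 7, 499, 61, 19, 1373, 1831, 67, 157, 229, 239, 2749,
  47, 5, 5501, 131, 5503, 43, 367, 2753, 5507, 17, 787, 29, 167, 53,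
  149, 919, 1103, 197, 613, 89, 5519, 23, 5521, 251, 263, 1381, 17, 307,
  5527, 691, 97, 79, 5531, 461, 503, 2767, 41, 173, 113, 71, 191, 277,
  1847, 163, 241, 11, 1109, 59, 43, 73, 179, 2, 61, 347, 617, 2777,
  101, 463, 5557, 397, 109, 139, 83, 103, 5563, 107, 53, 23, 293, 29,
  5569, 557, 619, 199, 5573, 929, 223, 41, 13, 2789, 797, 31, 5581, 2791,
  1861, 349]

set_option maxRecDepth 100000 in
set_option maxHeartbeats 4000000 in
theorem covers5 : Covers 5261 cert5 := by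
  decide +kernel

theorem length5 : cert5.length = 324 := by decide +kernel

end Cfsg.Agent.SmallSimple.Sieve6232
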