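import Cfsg.Agent.Lib.SmallSimple.Sieve6232.Base

/-!
# The sieve from 5585 to 5908
-/

namespace Cfsg.Agent.SmallSimple.Sieve6232

/-- Certificates from 5585 to 5908. -/
def cert6 : List ℕ :=
  [1117, 19, 151, 127, 23, 43, 5591, 233, 47, 2797, 373, 1399, 193, 311,
  509, 0, 1867, 2801, 431, 467, 59, 2803, 89, 701, 79, 17, 181, 61,
  1871, 401, 1123, 0, 137, 53, 1873, 281, 73, 937, 5623, 37, 5, 97,
  331, 67, 433, 563, 1877, 11, 131, 313, 23, 1409, 1879, 2819, 5639, 47,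
  5641, 31, 19, 83, 1129, 941, 5647, 353, 269, 113, 5651, 157, 5653, 257,
  29, 101, 5657, 41, 5659, 283, 37, 149, 809, 59, 103, 2833, 1889, 109,
  5669, 2, 107, 709, 61, 2837, 227, 11, 811, 167, 631, 71, 23, 947,
  5683, 29, 379, 2843, 47, 79, 5689, 569, 271, 1423, 5693, 73, 67, 89,
  211, 37, 139, 19, 5701, 2851, 1901, 31, 163, 317, 439, 1427, 173, 571,
  5711, 17, 197, 2857, 127, 1429, 5717, 953, 43, 13, 1907, 2861, 97, 0,
  229, 409, 83, 179, 337, 191, 521, 1433, 13, 61, 37, 239, 5737, 151,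
  1913, 41, 5741, 29, 5743, 359, 383, 17, 821, 479, 5749, 23, 71, 719,
  523, 137, 1151, 1439, 101, 2879, 443, 0, 823, 67, 113, 131, 1153, 31,
  79, 103, 641, 577, 199, 37, 251, 2887, 11, 19, 109, 107, 5779, 17,
  47, 59, 5783, 241, 89, 263, 643, 1447, 827, 193, 5791, 181, 1931, 2897,
  61, 23, 31, 223, 1933, 29, 5801, 967, 829, 1451, 43, 2903, 5807, 11,
  157, 83, 149, 1453, 5813, 2, 1163, 727, 277, 2909, 23, 97, 5821, 71,
  647, 13, 233, 971, 5827, 47, 67, 53, 17, 3, 307, 2917, 389, 1459,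
  449, 139, 5839, 73, 59, 127, 5843, 487, 167, 79, 1949, 43, 5849, 13,
  5851, 0, 1951, 2927, 1171, 61, 5857, 101, 7, 293, 5861, 977, 41, 733,
  23, 419, 5867, 163, 5869, 587, 103, 367, 839, 89, 47, 113, 653, 2939,
  5879, 0, 5881, 173, 53, 1471, 107, 109, 29, 23, 151, 31, 137, 491,
  83, 421, 131, 67, 5897, 983, 347, 59, 281, 227, 5903, 41, 1181, 2953,
  179, 211]

set_option maxRecDepth 100000 in
set_option maxHeartbeats 4000000 in
theorem covers6 : Covers 5585 cert6 := by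
  decide +kernel

theorem length6 : cert6.length = 324 := by decide +kernel

end Cfsg.Agent.SmallSimple.Sieve6232
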