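import Cfsg.Agent.Lib.SmallSimple.Sieve6232.Base

/-!
# The sieve from 5909 to 6232
-/

namespace Cfsg.Agent.SmallSimple.Sieve6232

/-- Certificates from 5909 to 6232. -/
def cert7 : List ℕ :=
  [311, 197, 257, 739, 73, 2957, 13, 29, 97, 269, 1973, 37, 191, 47,
  5923, 1481, 79, 2963, 5927, 19, 11, 593, 659, 1483, 349, 43, 1187, 53,
  1979, 2969, 5939, 0, 457, 2971, 283, 743, 41, 991, 313, 1487, 661, 5,
  541, 31, 5953, 229, 397, 1489, 37, 331, 101, 149, 1987, 271, 89, 71,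
  1193, 157, 17, 373, 127, 199, 853, 1493, 181, 103, 239, 83, 139, 61,
  1993, 23, 5981, 997, 193, 17, 19, 73, 5987, 499, 113, 599, 1997, 107,
  461, 37, 109, 1499, 1999, 2999, 857, 5, 353, 3001, 29, 79, 1201, 13,
  6007, 751, 2003, 601, 6011, 167, 859, 97, 401, 47, 547, 59, 463, 43,
  223, 3011, 317, 251, 241, 131, 41, 137, 6029, 67, 163, 29, 2011, 431,
  71, 503, 6037, 3019, 61, 151, 863, 53, 6043, 1511, 31, 3023, 6047, 0,
  263, 11, 2017, 89, 6053, 1009, 173, 757, 673, 233, 83, 101, 29, 433,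
  47, 379, 1213, 337, 6067, 41, 17, 607, 467, 0, 6073, 3037, 5, 31,
  103, 1013, 6079, 19, 2027, 3041, 79, 13, 1217, 179, 2029, 761, 6089, 2,
  6091, 1523, 677, 277, 53, 127, 67, 3049, 107, 61, 6101, 113, 359, 109,
  37, 71, 197, 509, 149, 47, 97, 191, 6113, 1019, 1223, 139, 2039, 23,
  211, 17, 6121, 3061, 157, 1531, 7, 1021, 557, 383, 227, 613, 6131, 73,
  6133, 3067, 409, 59, 19, 31, 877, 307, 89, 83, 6143, 2, 1229, 439,
  683, 53, 43, 41, 6151, 769, 293, 181, 1231, 19, 131, 3079, 2053, 7,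
  101, 79, 6163, 67, 137, 3083, 881, 257, 199, 617, 17, 1543, 6173, 7,
  19, 193, 71, 3089, 167, 103, 883, 281, 229, 773, 1237, 1031, 269, 17,
  2063, 619, 151, 43, 563, 163, 59, 1549, 6197, 1033, 6199, 31, 53, 443,
  6203, 47, 73, 107, 2069, 97, 887, 23, 6211, 1553, 109, 239, 113, 37,
  6217, 3109, 691, 311, 6221, 61, 127, 389, 83, 283, 479, 173, 6229, 89,
  67, 41]

set_option maxRecDepth 100000 in
set_option maxHeartbeats 4000000 in
theorem covers7 : Covers 5909 cert7 := by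
  decide +kernel

theorem length7 : cert7.length = 324 := by decide +kernel

end Cfsg.Agent.SmallSimple.Sieve6232
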