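import Cfsg.Agent.Lib.SmallSimple.Sieve6232.Chunk0
import Cfsg.Agent.Lib.SmallSimple.Sieve6232.Chunk1
import Cfsg.Agent.Lib.SmallSimple.Sieve6232.Chunk2
import Cfsg.Agent.Lib.SmallSimple.Sieve6232.Chunk3
import Cfsg.Agent.Lib.SmallSimple.Sieve6232.Chunk4
import Cfsg.Agent.Lib.SmallSimple.Sieve6232.Chunk5
import Cfsg.Agent.Lib.SmallSimple.Sieve6232.Chunk6
import Cfsg.Agent.Lib.SmallSimple.Sieve6232.Chunk7

/-!
# The orders from 3641 to 6232 passing the Sylow filter
-/

namespace Cfsg.Agent.SmallSimple.Sieve6232

theorem survivor {G : Type*} [Group G] [Finite G] [IsSimpleGroup G]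
    (hG : ¬ IsMulCommutative G) (h1 : 3640 < Nat.card G) (h2 : Nat.card G ≤ 6232) :
    Nat.card G ∈ survivors := by
  by_cases g0 : Nat.card G < 3965
  · exact mem_survivors hG covers0 (by omega) (by rw [length0]; omega)
  by_cases g1 : Nat.card G < 4289
  · exact mem_survivors hG covers1 (by omega) (by rw [length1]; omega)
  by_cases g2 : Nat.card G < 4613
  · exact mem_survivors hG covers2 (by omega) (by rw [length2]; omega)
  by_cases g3 : Nat.card G < 4937
  · exact mem_survivors hG covers3 (by omega) (by rw [length3]; omega)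
  by_cases g4 : Nat.card G < 5261
  · exact mem_survivors hG covers4 (by omega) (by rw [length4]; omega)
  by_cases g5 : Nat.card G < 5585
  · exact mem_survivors hG covers5 (by omega) (by rw [length5]; omega)
  by_cases g6 : Nat.card G < 5909
  · exact mem_survivors hG covers6 (by omega) (by rw [length6]; omega)
  by_cases g7 : Nat.card G < 6233
  · exact mem_survivors hG covers7 (by omega) (by rw [length7]; omega)
  omega

end Cfsg.Agent.SmallSimple.Sieve6232
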