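import Cfsg.Agent.Lib.SmallSimple.Filter

/-!
# The sieve for the orders from 3641 to 6232: certificates

A chunk is given by its first order and a list with, for each order of the chunk in turn, a prime
at which the Sylow filter fails, or `0` if the order survives.
-/

namespace Cfsg.Agent.SmallSimple.Sieve6232

/-- The orders passing the Sylow filter. -/
def survivors : List ℕ :=
  [3648, 3696, 3744, 3780, 3960, 4032, 4080, 4200, 4212, 4320, 4400, 4536, 4620, 4680, 4760, 4800,
  4928, 4960, 5040, 5104, 5148, 5184, 5200, 5236, 5376, 5400, 5460, 5472, 5600, 5616, 5724, 5760,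
  5852, 5880, 5940, 6048, 6072]

/-- Trial division up to `80`: a primality test below `6400`. -/
abbrev SmallPrime (p : ℕ) : Prop :=
  2 ≤ p ∧ p < 6400 ∧ ∀ m ∈ List.range 80, 2 ≤ m → m * m ≤ p → p % m ≠ 0

theorem SmallPrime.prime {p : ℕ} (h : SmallPrime p) : p.Prime := by
  obtain ⟨h2, hlt, hd⟩ := h
  refine Nat.prime_def_le_sqrt.2 ⟨h2, fun m hm hle hdvd => ?_⟩
  have hmm : m * m ≤ p := Nat.le_sqrt.1 hle
  have hm80 : m < 80 := by nlinarith
  exact hd m (List.mem_range.2 hm80) hm hmm (Nat.mod_eq_zero_of_dvd hdvd)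

/-- The certificate `p` settles the order `N`. -/
abbrev Good (N p : ℕ) : Prop :=
  (p = 0 ∧ N ∈ survivors) ∨ (SmallPrime p ∧ p ∣ N ∧ ¬ Filter.Ok N p)

/-- The list of certificates `l` settles the orders from `lo` on. -/
abbrev Covers (lo : ℕ) (l : List ℕ) : Prop :=
  ∀ i ∈ List.range l.length, Good (lo + i) (l.getD i 0)

theorem mem_survivors {G : Type*} [Group G] [Finite G] [IsSimpleGroup G]
    (hG : ¬ IsMulCommutative G) {lo : ℕ} {l : List ℕ} (hc : Covers lo l) (h1 : lo ≤ Nat.card G)
    (h2 : Nat.card G < lo + l.length) : Nat.card G ∈ survivors := by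
  have h := hc (Nat.card G - lo) (List.mem_range.2 (by omega))
  rw [Nat.add_sub_cancel' h1] at h
  rcases h with ⟨-, h⟩ | ⟨hp, hd, hn⟩
  · exact h
  · exact absurd (Filter.ok_of_simple hG hp.prime hd) hn

end Cfsg.Agent.SmallSimple.Sieve6232
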