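import Cfsg.Agent.Lib.SmallSimple.Sieve6232.Base

/-!
# The sieve from 3641 to 3964
-/

namespace Cfsg.Agent.SmallSimple.Sieve6232

/-- Certificates from 3641 to 3964. -/
def cert0 : List ℕ :=
  [331, 607, 3643, 911, 5, 1823, 521, 0, 89, 73, 1217, 83, 281, 29,
  43, 457, 53, 59, 3659, 61, 523, 1831, 37, 229, 733, 47, 193, 131,
  1223, 367, 3671, 17, 3673, 167, 7, 919, 3677, 613, 283, 23, 409, 263,
  127, 307, 67, 97, 1229, 461, 31, 41, 3691, 71, 1231, 1847, 739, 0,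
  3697, 43, 137, 37, 3701, 617, 23, 463, 19, 109, 337, 103, 3709, 53,
  1237, 29, 79, 619, 743, 929, 59, 13, 3719, 31, 61, 1861, 73, 19,
  149, 23, 3727, 233, 113, 373, 41, 311, 3733, 1867, 83, 467, 101, 89,
  3739, 17, 43, 1871, 197, 0, 107, 1873, 1249, 937, 163, 5, 31, 67,
  139, 1877, 751, 313, 17, 1879, 179, 47, 3761, 19, 71, 941, 251, 269,
  3767, 157, 3769, 29, 419, 41, 11, 37, 151, 59, 1259, 1889, 3779, 0,
  199, 61, 97, 43, 757, 631, 541, 947, 421, 379, 223, 79, 3793, 271,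
  23, 73, 3797, 211, 131, 19, 181, 1901, 3803, 317, 761, 173, 47, 17,
  293, 127, 103, 953, 41, 1907, 109, 53, 347, 83, 67, 191, 3821, 13,
  3823, 239, 17, 1913, 89, 29, 547, 383, 1277, 479, 3833, 71, 59, 137,
  1279, 101, 349, 2, 167, 113, 61, 31, 769, 641, 3847, 37, 1283, 11,
  3851, 107, 3853, 47, 257, 241, 29, 643, 227, 193, 13, 1931, 3863, 23,
  773, 1933, 1289, 967, 73, 43, 79, 11, 1291, 149, 31, 19, 3877, 277,
  431, 97, 3881, 647, 353, 971, 37, 67, 23, 3, 3889, 389, 1297, 139,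
  229, 59, 41, 487, 433, 1949, 557, 13, 83, 1951, 1301, 61, 71, 7,
  3907, 977, 1303, 23, 3911, 163, 43, 103, 29, 89, 3917, 653, 3919, 7,
  1307, 53, 3923, 109, 157, 151, 17, 491, 3929, 131, 3931, 983, 23, 281,
  787, 41, 127, 179, 101, 197, 563, 73, 3943, 29, 263, 1973, 3947, 47,
  359, 79, 439, 19, 67, 659, 113, 43, 1319, 1979, 107, 0, 233, 283,
  1321, 991]

set_option maxRecDepth 100000 in
set_option maxHeartbeats 4000000 in
theorem covers0 : Covers 3641 cert0 := by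
  decide +kernel

theorem length0 : cert0.length = 324 := by decide +kernel

end Cfsg.Agent.SmallSimple.Sieve6232
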